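import Cfsg.Agent.Lib.ToddCox.Glue
set_option autoImplicit false
set_option maxRecDepth 100000
namespace Cfsg.Agent.Lib.ToddCox.J3C1
def E_0 : ℕ := 0x1040000040000041000001000001080000040000042000001000001fc00000c00000ff000001000001fc000020000023f000001000004fc000004000007f000004000004fc00002c00002ff000004000009fc000010000013f000009000004fc000040000043f000004000004fc000020000023f000004000007fc000010000013f000007000007fc000020000023f000007000007fc000064000067f000007000007fc000040000043f000007000007fc000070000073f000007000007fc00002c00002ff000007000007080000200000202000007000010fc00002c00002ff000010000010fc000064000067f00001000001cfc000064000067f00001c000023fc00001c00001ff000023000007fc00003800003bf00000700001dfc000064000067f00001d000016fc000010000013f000016000008fc000034000037f00000800000cfc000020000023f00000c000029fc00003800003bf00002900000dfc000030000033f00000d000015fc000010000013f000015000018fc000080000083f000018000017fc00001c00001ff000017000021fc00004c00004ff000021000025fc00002c00002ff000025000019080000700000702000019000019000000640000640000019000019fc00009c00009ff000019000028fc000070000073f0000280000090800002c00002c2000009000009fc000050000053f000009000011fc00002c00002ff00001100001efc00004c00004ff00001e000021040000600000601000021000021fc00009800009bf00002100001c0800009c00009c200001c0000260800007800007820000260000210000009400009400000210000230400008c00008c10000230000150000005c00005c0000015000015fc000090000093f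000015000022fc00005c00005ff000022000020000000a40000a4000002000002904000074000074100002900001f0000006c00006c000001f00001d00000070000070000001d000001000000040000040000001000002fc000004000007f000002000005fc000000000003f0000050000060800000c00000c200000600000008000000000000200000000000004000000000000100000000000000000000000000000000000001a0c0000a40000a4300001a000019080000a00000a020000190000190000009c00009c00000190000180400009800009810000180000170400009400009410000170000170000009000009000000170000160000008c00008c00000160000150000008800008800000150000130800008400008420000130000130400008000008010000130000120800007c00007c200001200001100000078000078000001100001008000074000074200001000001004000070000070100001000000f0400006c00006c100000f00000f00000068000068000000f00000e04000064000064100000e00000e00000060000060000000e00000d0800005c00005c200000d00000d04000058000058100000d00000c04000054000054100000c00000b08000050000050200000b00000b0000004c00004c000000b00000a04000048000048100000a0000090800004400004420000090000090000004000004000000090000080c00003c00003c30000080000080800003800003820000080000080000003400003400000080000070800003000003020000070000070400002c00002c10000070000060c00002800002830000060000060400002400002410000060000040400002000002010000040000040000001c00001c00000040000030000001800001800000030000020c00001400001430000020000010800001000001020000010000010400000c00000c10000010000010000000800000800000010000000c0000040000043000000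
end Cfsg.Agent.Lib.ToddCox.J3C1
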