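import Cfsg.Agent.Lib.ToddCox.J3C1.Data
set_option autoImplicit false
set_option maxRecDepth 100000
namespace Cfsg.Agent.Lib.ToddCox.J3C1
theorem wordsGood : allBelow (wordsOK W (relR Rb inv) inv sp) nW 5 = true := by decide +kernel
theorem d0 : allBits (fun k => bif Nat.blt k 41 then chkDef Eo inv k else true) 13 0 = true := by decide +kernel
def L0 : List ℕ := [nat_lit 0x1e000011a00003f00000a000012400011600001400000a00001c400011600002500000480001c00000f200002e00001880002240000c000003800001b800018000007000001e000008000002800000800005e000002800002c00002200008100000980002140000e8000011000042800013000000600004f00004180001d400002000004e00002680001d000006c00001e000040800009400007e000067000032800018400006c00001e000008000016400001600001100000f80000dc00002400007f000013000004400004200007d000013800004000007600007b00001200000240000e400007600002000000400000ee00004a00000780001c400009000002c00000c000006c00006200004d00003a00001800000c800006600001f000009000002800000c000007800006c00005e00004b00000700000d800003c00001000000500000100000be000005000005800016400001600001100001080000ec0000e400004a00001700000c400009a00000d00002500000b800003400001900001580001140000de000044000015000006000001c00000600002f000001400001600001100001080000ec00001800004000001f800019c0000ca00006100001b000007800002000000a00002c0000028000008000007000006800005c00005200006d000024800002c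00008800002a00000c000003800001a00001500001280000fc0000ce00006500003080000d800003c00001000000500000100000bc000005000005800004400003e00003700003000001900000cc00003e000012000005000001800000f00000c80000ac00008a00000a0000358000118000006000043000034800011c0000120000420000140000058000018000006000002800002c00002200001f00001c80001900000cc00003e000012000005000001800000f00000c80000b400001000003e000012000005000001800000600002f80000140000b000000a00002c000004400003e00003700003000000e000006e000060000032000001c0000a000003200001a8000188000078000022000009000004400003e00003900000300000f000004400001200000500000100000bc000007000007800007400006a00000500001c0000078000020000059000005800016400000800005e000002800002c0000b200000400002f000001400001600001100000f80000dc00000800005c000001000000c00001200005b0000008000008000010000002000002800002c0000b200000400000000001540000a600005700002a800000400001400000400000000001540000ae00005300002a800014c0000020000050000007ffffffffffffffffff]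
theorem s0 : chkChunks Eo inv W isH 32 L0 41 = true := by decide +kernel
theorem c0 : Covered Eo inv W isH 41 73 := covered_of_chunks 32 L0 41 73 rfl s0
theorem s1 : chkStream Eo inv W isH 28 73 0x31400000800000f00006000000180000220000c0000007800030800000a00001700006000002e400002a0000bc00004080002f800000c00001900005b00002b400002a00001f00005d000003400016e00001b00005b00002c400002a0000b600005a800005400016600008700005900000300000340000b300004480002b8000156000019000058800029c00002a0000ad000054000005400015a0000a800005380002900000300000a2000037800028c00002a00001700005080000680000220000a7000018000028000002a00001700001c800027c0001120000a500000b000018000013e000086000004800011000013a00000d000004800005c00013200001b000008000019000012e00003100000a00000a800013400000e00000a0000260000128000015000014800024c00001e000014000033000024000005c000009000016800023c00002e000010000036800023c000018000009 = true := by decide +kernel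
theorem c1 : Covered Eo inv W isH 73 101 := covered_of_stream 28 73 _ s1
theorem l0 : chkPoints Eo cF (2 * nEv) N ys 2 0 0x800000000018e00000100006480000040000be00000100000000000040000ac00000000002a00000000000a4000000 = true := by decide +kernel
theorem k0 : LinksOK Eo cF (2 * nEv) N ys 0 2 := linksOK_of_points 2 0 _ l0
end Cfsg.Agent.Lib.ToddCox.J3C1
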